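import Groth.Agent.Lib.Helper22.FinPushSets.DegOne
import Groth.Agent.Lib.Helper22.EtStalk.FinitePushFormula

/-!
# Decomposition of `X ×_Y V` near the fibre over a geometric point, for finite `f` (helper22)
-/

set_option autoImplicit false
set_option linter.unusedSectionVars false
set_option linter.unusedVariables false
set_option linter.style.haveILetI false
universe u
open CategoryTheory CategoryTheory.Limits AlgebraicGeometry Opposite

namespace Groth.Agent.Lib.Helper22.FinPushSets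

open Groth.Agent.Lib.Helper22.CechU.Etale Groth.Agent.Lib.Helper22.EtStalk
  Groth.Agent.Lib.Helper22.EtStalk.PushRetr Groth.Agent.Lib.Helper22.EtStalk.FinitePush
  Groth.Agent.Lib.Helper22.EtLoc.Clopen

noncomputable section

variable {X Y : Scheme.{u}} (f : X ⟶ Y) [IsFinite f]
  {Ω : Type u} [Field Ω] [IsAlgClosed Ω] {η : Spec (CommRingCat.of Ω) ⟶ Y}

lemma fiber_map_comp_apply' {S : Scheme.{u}} {Ω : Type u} [Field Ω] [IsSepClosed Ω]
    (ξ : Spec (CommRingCat.of Ω) ⟶ S)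
    {A B C : S.Etale} (a : A ⟶ B) (b : B ⟶ C) (x : (Scheme.pointSmallEtale ξ).fiber.obj A) :
    (Scheme.pointSmallEtale ξ).fiber.map (a ≫ b) x =
      (Scheme.pointSmallEtale ξ).fiber.map b ((Scheme.pointSmallEtale ξ).fiber.map a x) := by
  rw [Functor.map_comp]
  rfl

set_option backward.isDefEq.respectTransparency.types false in
theorem exists_decomp (W : Lifts f η → X.Etale)
    (w : ∀ ξ : Lifts f η, (Scheme.pointSmallEtale ξ.1).fiber.obj (W ξ)) :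
    ∃ (V : Y.Etale) (v : (Scheme.pointSmallEtale η).fiber.obj V)
      (N : Lifts f η → ((EtCoh.bc f).obj V).left.Opens)
      (m : ∀ ξ, openSub ((EtCoh.bc f).obj V) (N ξ) ⟶ W ξ)
      (n : ∀ ξ : Lifts f η,
        (Scheme.pointSmallEtale ξ.1).fiber.obj (openSub ((EtCoh.bc f).obj V) (N ξ))),
      (∀ p : ((EtCoh.bc f).obj V).left, ∃ ξ, p ∈ N ξ) ∧
      (∀ ξ ξ', ξ ≠ ξ' → Disjoint (N ξ : Set ((EtCoh.bc f).obj V).left) (N ξ')) ∧
      (∀ ξ, (Scheme.pointSmallEtale ξ.1).fiber.map (openSubι _ (N ξ)) (n ξ) = ptPair f ξ V v) ∧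
      (∀ ξ, (Scheme.pointSmallEtale ξ.1).fiber.map (m ξ) (n ξ) = w ξ) := by
  classical
  have hfinL : Finite (Lifts f η) := finite_lifts f η
  have : Fintype (Lifts f η) := Fintype.ofFinite _
  choose V₁ v₁ Tet h k qT hfin hq hk hU using fun ξ => exists_finite_nbhd f ξ (W ξ) (w ξ)
  let P₁ : Lifts f η → X.Etale := fun ξ => (EtCoh.bc f).obj (V₁ ξ)
  let r : ∀ ξ, (P₁ ξ).left → ℕ := fun ξ =>
    ((h ξ).left : (Tet ξ).left ⟶ (P₁ ξ).left).finrank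
  have hr : ∀ ξ ξ' : Lifts f η,
      r ξ ((ptPairL f ξ' (V₁ ξ) (v₁ ξ)) (default : Spec (CommRingCat.of Ω))) =
        if ξ' = ξ then 1 else 0 := by
    intro ξ ξ'
    haveI := hfin ξ
    convert finrank_ptPair f ξ (V₁ ξ) (v₁ ξ) (Tet ξ) (h ξ) (qT ξ) (hq ξ) (hU ξ) ξ'
  have hrlc : ∀ ξ, IsLocallyConstant (r ξ) := by
    intro ξ
    haveI : IsFinite ((h ξ).left : (Tet ξ).left ⟶ (P₁ ξ).left) := hfin ξ
    haveI : Etale ((h ξ).left : (Tet ξ).left ⟶ (P₁ ξ).left) := etale_left (h ξ)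
    exact Scheme.Hom.isLocallyConstant_finrank _
  -- common refinement
  let Φ := Scheme.pointSmallEtale η
  let E : Lifts f η → Φ.fiber.Elements := fun ξ => ⟨V₁ ξ, v₁ ξ⟩
  obtain ⟨S, hS⟩ := IsCofiltered.inf_objs_exists (C := Φ.fiber.Elements)
    (Finset.univ.image E)
  let V₂ : Y.Etale := S.1
  let v₂ : Φ.fiber.obj V₂ := S.2
  have hg : ∀ ξ, ∃ g : V₂ ⟶ V₁ ξ, Φ.fiber.map g v₂ = v₁ ξ := by
    intro ξ
    obtain ⟨g⟩ := hS (X := E ξ) (Finset.mem_image_of_mem _ (Finset.mem_univ ξ))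
    exact ⟨g.1, g.2⟩
  choose g hg using hg
  let P₂ : X.Etale := (EtCoh.bc f).obj V₂
  let G : ∀ ξ, P₂ ⟶ P₁ ξ := fun ξ => (EtCoh.bc f).map (g ξ)
  let ρ : ∀ ξ, P₂.left → ℕ := fun ξ p => r ξ (((G ξ).left : P₂.left ⟶ (P₁ ξ).left) p)
  have hρlc : ∀ ξ, IsLocallyConstant (ρ ξ) := fun ξ =>
    (hrlc ξ).comp_continuous ((G ξ).left : P₂.left ⟶ (P₁ ξ).left).continuous
  have hρ : ∀ ξ ξ' : Lifts f η,
      ρ ξ ((ptPairL f ξ' V₂ v₂) (default : Spec (CommRingCat.of Ω))) =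
        if ξ' = ξ then 1 else 0 := by
    intro ξ ξ'
    have e : ptPairL f ξ' V₂ v₂ ≫ ((G ξ).left : P₂.left ⟶ (P₁ ξ).left) =
        ptPairL f ξ' (V₁ ξ) (Φ.fiber.map (g ξ) v₂) := ptPairL_natural f ξ' (g ξ) v₂
    rw [hg ξ] at e
    have e' : ((G ξ).left : P₂.left ⟶ (P₁ ξ).left)
        ((ptPairL f ξ' V₂ v₂) (default : Spec (CommRingCat.of Ω))) =
        (ptPairL f ξ' (V₁ ξ) (v₁ ξ)) (default : Spec (CommRingCat.of Ω)) := by
      rw [← e]
      rfl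
    change r ξ _ = _
    rw [e']
    exact hr ξ ξ'
  let N₂ : Lifts f η → Set P₂.left := fun ξ => {p | ∀ ξ', ρ ξ' p = if ξ = ξ' then 1 else 0}
  have hN₂o : ∀ ξ, IsOpen (N₂ ξ) := by
    intro ξ
    have e : N₂ ξ = ⋂ ξ', (ρ ξ') ⁻¹' {if ξ = ξ' then 1 else 0} := by
      ext p
      simp only [N₂, Set.mem_iInter, Set.mem_preimage, Set.mem_singleton_iff]
      rfl
    rw [e]
    exact isOpen_iInter_of_finite fun ξ' => (hρlc ξ').isOpen_fiber _
  have hN₂pt : ∀ ξ, (ptPairL f ξ V₂ v₂) (default : Spec (CommRingCat.of Ω)) ∈ N₂ ξ :=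
    fun ξ ξ' => hρ ξ' ξ
  have hN₂d : ∀ ξ ξ', ξ ≠ ξ' → Disjoint (N₂ ξ) (N₂ ξ') := by
    intro ξ ξ' hne
    rw [Set.disjoint_left]
    intro p hp hp'
    have h1 := hp ξ
    have h2 := hp' ξ
    rw [if_pos rfl] at h1
    rw [if_neg (Ne.symm hne)] at h2
    omega
  let B : Set P₂.left := (⋃ ξ, N₂ ξ)ᶜ
  have hB : IsClosed B := (isOpen_iUnion hN₂o).isClosed_compl
  let π₂ : P₂.left ⟶ V₂.left := pullback.fst V₂.hom f
  have hfinπ : IsFinite (pullback.fst V₂.hom f) := inferInstance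
  have hπ₂ : IsClosedMap π₂ := (pullback.fst V₂.hom f).isClosedMap
  let v₀ : V₂.left := v₂.left (default : Spec (CommRingCat.of Ω))
  let C : Set V₂.left := π₂ '' B
  have hC : IsClosed C := hπ₂ _ hB
  have hv₀ : v₀ ∉ C := by
    rintro ⟨p, hp, hpv⟩
    obtain ⟨ξ, hξ⟩ := exists_lift_ptPair f V₂ v₂ p hpv
    apply hp
    refine Set.mem_iUnion.2 ⟨ξ, ?_⟩
    rw [← hξ]
    exact hN₂pt ξ
  let Vo : V₂.left.Opens := ⟨Cᶜ, hC.isOpen_compl⟩
  obtain ⟨v, hv⟩ := exists_fiber_openSub η V₂ Vo v₂ hv₀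
  let V : Y.Etale := openSub V₂ Vo
  let P : X.Etale := (EtCoh.bc f).obj V
  let G' : P ⟶ P₂ := (EtCoh.bc f).map (openSubι V₂ Vo)
  let Gl' : P.left ⟶ P₂.left := G'.left
  let N : Lifts f η → P.left.Opens := fun ξ => Gl' ⁻¹ᵁ ⟨N₂ ξ, hN₂o ξ⟩
  have hcov : ∀ p : P.left, ∃ ξ, p ∈ N ξ := by
    intro p
    have hnB : Gl' p ∉ B := by
      intro hcon
      have hmem : π₂ (Gl' p) ∈ C := ⟨_, hcon, rfl⟩
      have h1 : Gl' ≫ π₂ = (pullback.fst V.hom f : P.left ⟶ V.left) ≫ Vo.ι :=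
        ClosedStalk.bc_map_left_fst f (openSubι V₂ Vo)
      have h2 : π₂ (Gl' p) = (Gl' ≫ π₂) p := rfl
      rw [h1] at h2
      have h3 : π₂ (Gl' p) ∈ (Vo : Set V₂.left) := by
        rw [h2]
        exact ((pullback.fst V.hom f : P.left ⟶ V.left) p).2
      exact h3 hmem
    have hmemU : Gl' p ∈ ⋃ ξ, N₂ ξ := by
      by_contra hcon
      exact hnB hcon
    obtain ⟨ξ, hξ⟩ := Set.mem_iUnion.1 hmemU
    exact ⟨ξ, hξ⟩
  have hdisj : ∀ ξ ξ', ξ ≠ ξ' → Disjoint (N ξ : Set P.left) (N ξ') := by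
    intro ξ ξ' hne
    rw [Set.disjoint_left]
    intro p hp hp'
    exact Set.disjoint_left.1 (hN₂d ξ ξ' hne) hp hp'
  have hGpt : ∀ ξ : Lifts f η, (Scheme.pointSmallEtale ξ.1).fiber.map G' (ptPair f ξ V v) =
      ptPair f ξ V₂ v₂ := by
    intro ξ
    have e := ptPair_natural f ξ (openSubι V₂ Vo) v
    rw [hv] at e
    exact e
  have hptN : ∀ ξ : Lifts f η,
      (ptPair f ξ V v).left (default : Spec (CommRingCat.of Ω)) ∈ N ξ := by
    intro ξ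
    have e : ptPairL f ξ V v ≫ Gl' = ptPairL f ξ V₂ (Φ.fiber.map (openSubι V₂ Vo) v) :=
      ptPairL_natural f ξ (openSubι V₂ Vo) v
    rw [hv] at e
    have e' : Gl' ((ptPairL f ξ V v) (default : Spec (CommRingCat.of Ω))) =
        (ptPairL f ξ V₂ v₂) (default : Spec (CommRingCat.of Ω)) := by
      rw [← e]
      rfl
    change Gl' ((ptPairL f ξ V v) (default : Spec (CommRingCat.of Ω))) ∈ N₂ ξ
    rw [e']
    exact hN₂pt ξ
  have hn : ∀ ξ : Lifts f η, ∃ n : (Scheme.pointSmallEtale ξ.1).fiber.obj (openSub P (N ξ)),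
      (Scheme.pointSmallEtale ξ.1).fiber.map (openSubι P (N ξ)) n = ptPair f ξ V v :=
    fun ξ => exists_fiber_openSub ξ.1 P (N ξ) (ptPair f ξ V v) (hptN ξ)
  choose n hn using hn
  -- the maps to `W ξ`
  let a : ∀ ξ, openSub P (N ξ) ⟶ P₁ ξ := fun ξ => openSubι P (N ξ) ≫ G' ≫ G ξ
  have hrank : ∀ ξ (z : (openSub P (N ξ)).left),
      ((h ξ).left : (Tet ξ).left ⟶ (P₁ ξ).left).finrank
        (((a ξ).left : (openSub P (N ξ)).left ⟶ (P₁ ξ).left) z) = 1 := by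
    intro ξ z
    have hz : Gl' ((N ξ).ι z) ∈ N₂ ξ := z.2
    have h1 := hz ξ
    rw [if_pos rfl] at h1
    exact h1
  have hm : ∀ ξ, ∃ m : openSub P (N ξ) ⟶ W ξ,
      (Scheme.pointSmallEtale ξ.1).fiber.map m (n ξ) = w ξ := by
    intro ξ
    haveI : IsFinite ((h ξ).left : (Tet ξ).left ⟶ (P₁ ξ).left) := hfin ξ
    obtain ⟨m, hm⟩ := exists_map_of_finrank_one (openSub P (N ξ)) (P₁ ξ) (Tet ξ) (W ξ) (a ξ)
      (h ξ) (k ξ) (hrank ξ)
    refine ⟨m, ?_⟩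
    rw [← hk ξ]
    apply hm Ω ξ.1 (n ξ) (qT ξ)
    rw [hq ξ]
    change _ = (Scheme.pointSmallEtale ξ.1).fiber.map (openSubι P (N ξ) ≫ G' ≫ G ξ) (n ξ)
    rw [fiber_map_comp_apply', fiber_map_comp_apply', hn ξ, hGpt ξ]
    have e := ptPair_natural f ξ (g ξ) v₂
    rw [hg ξ] at e
    exact e.symm
  choose m hm using hm
  exact ⟨V, v, N, m, n, hcov, hdisj, hn, hm⟩

end

end Groth.Agent.Lib.Helper22.FinPushSets
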