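import Groth.Agent.Lib.Helper22.FinPushSets.Rank

/-!
# Lifting along a finite étale morphism of degree one (helper22)
-/

set_option autoImplicit false
set_option linter.unusedSectionVars false
set_option linter.unusedVariables false
universe u
open CategoryTheory CategoryTheory.Limits AlgebraicGeometry Opposite

namespace Groth.Agent.Lib.Helper22.FinPushSets

open Groth.Agent.Lib.Helper22.CechU.Etale Groth.Agent.Lib.Helper22.EtStalk
  Groth.Agent.Lib.Helper22.EtStalk.FinitePush

noncomputable section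

variable {X : Scheme.{u}}

set_option backward.isDefEq.respectTransparency.types false in
/-- If `h : T ⟶ P` is finite (étale) of degree one along the image of `a : A ⟶ P`, then `a` lifts
to `T`; composing with `k : T ⟶ W` we get `A ⟶ W`, compatibly with geometric points. -/
theorem exists_map_of_finrank_one (A P T W : X.Etale) (a : A ⟶ P) (h : T ⟶ P) (k : T ⟶ W)
    [hfin : IsFinite (h.left : T.left ⟶ P.left)]
    (hrank : ∀ z : A.left, (h.left : T.left ⟶ P.left).finrank ((a.left : A.left ⟶ P.left) z) = 1) :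
    ∃ m : A ⟶ W, ∀ (Ω : Type u) [Field Ω] [IsSepClosed Ω] (ξ : Spec (CommRingCat.of Ω) ⟶ X)
      (x : (Scheme.pointSmallEtale ξ).fiber.obj A) (q : (Scheme.pointSmallEtale ξ).fiber.obj T),
      (Scheme.pointSmallEtale ξ).fiber.map h q = (Scheme.pointSmallEtale ξ).fiber.map a x →
        (Scheme.pointSmallEtale ξ).fiber.map m x = (Scheme.pointSmallEtale ξ).fiber.map k q := by
  let al : A.left ⟶ P.left := a.left
  let hl : T.left ⟶ P.left := h.left
  let kl : T.left ⟶ W.left := k.left
  have het : Etale hl := etale_left h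
  have hfl : Flat hl := inferInstance
  have hfin' : IsFinite hl := hfin
  let pr₁ : pullback al hl ⟶ A.left := pullback.fst al hl
  let pr₂ : pullback al hl ⟶ T.left := pullback.snd al hl
  have hfin₁ : IsFinite pr₁ := inferInstanceAs (IsFinite (pullback.fst al hl))
  have hfl₁ : Flat pr₁ := inferInstanceAs (Flat (pullback.fst al hl))
  have hiso : IsIso pr₁ := by
    rw [Scheme.Hom.isIso_iff_finrank_eq]
    ext z
    rw [Pi.one_apply]
    exact (Scheme.Hom.finrank_pullback_fst hl al z).trans (hrank z)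
  have hA : al ≫ (P.hom : P.left ⟶ X) = A.hom := Over.w a.hom
  have hT : hl ≫ (P.hom : P.left ⟶ X) = T.hom := Over.w h.hom
  have hK : kl ≫ (W.hom : W.left ⟶ X) = T.hom := Over.w k.hom
  let ml : A.left ⟶ W.left := inv pr₁ ≫ pr₂ ≫ kl
  have hml : ml ≫ (W.hom : W.left ⟶ X) = A.hom := by
    change (inv pr₁ ≫ pr₂ ≫ kl) ≫ (W.hom : W.left ⟶ X) = A.hom
    have hc : pr₂ ≫ hl = pr₁ ≫ al := pullback.condition.symm
    rw [Category.assoc, Category.assoc, hK, ← hT, ← Category.assoc pr₂, hc, Category.assoc, hA,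
      IsIso.inv_hom_id_assoc]
  let m : A ⟶ W := MorphismProperty.Over.homMk ml hml trivial
  refine ⟨m, ?_⟩
  intro Ω _ _ ξ x q hqx
  apply Over.OverMorphism.ext
  let xl : Spec (CommRingCat.of Ω) ⟶ A.left := x.left
  let ql : Spec (CommRingCat.of Ω) ⟶ T.left := q.left
  have hc : ql ≫ hl = xl ≫ al := congrArg (fun t => t.left) hqx
  let z : Spec (CommRingCat.of Ω) ⟶ pullback al hl := pullback.lift xl ql hc.symm
  have hz1 : z ≫ pr₁ = xl := pullback.lift_fst _ _ _
  have hz2 : z ≫ pr₂ = ql := pullback.lift_snd _ _ _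
  have hz : xl ≫ inv pr₁ = z := by
    rw [← hz1, Category.assoc, IsIso.hom_inv_id, Category.comp_id]
  change xl ≫ ml = ql ≫ kl
  change xl ≫ inv pr₁ ≫ pr₂ ≫ kl = ql ≫ kl
  rw [← Category.assoc, hz, ← Category.assoc, hz2]

end

end Groth.Agent.Lib.Helper22.FinPushSets
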