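import Groth.Agent.Lib.Helper22.FinPushSets.Retr
import Groth.Agent.Lib.Helper22.EtStalk.FinitePushInj

/-!
# Injectivity of `(f_* F)_η ⟶ ∏_ξ F_ξ` for finite `f` and sheaves of sets (helper22)
-/

set_option autoImplicit false
set_option linter.unusedSectionVars false
universe u
open CategoryTheory CategoryTheory.Limits AlgebraicGeometry Opposite

namespace Groth.Agent.Lib.Helper22.FinPushSets

open Groth.Agent.Lib.Helper22.CechU.Etale Groth.Agent.Lib.Helper22.EtStalk
  Groth.Agent.Lib.Helper22.EtStalk.PushRetr Groth.Agent.Lib.Helper22.EtStalk.Sets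
  Groth.Agent.Lib.Helper22.EtLoc.Clopen Groth.Agent.Lib.Helper22.EtStalk.FinitePush

noncomputable section

variable {X Y : Scheme.{u}} (f : X ⟶ Y) [IsFinite f]
  {Ω : Type u} [Field Ω] [IsAlgClosed Ω] {η : Spec (CommRingCat.of Ω) ⟶ Y}

set_option backward.isDefEq.respectTransparency.types false in
/-- Injectivity half of the stalk formula for finite morphisms, sheaves of sets. -/
theorem eq_of_retrS_eq (F : Sh X)
    (b b' : (Scheme.pointSmallEtale η).presheafFiber.obj ((EtDesc.pushSh f).obj F).obj)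
    (hb : ∀ ξ : Lifts f η, retrS f ξ F b = retrS f ξ F b') : b = b' := by
  obtain ⟨V, v, t₁, t₂, rfl, rfl⟩ :=
    (Scheme.pointSmallEtale η).toPresheafFiber_jointly_surjective₂
      (P := ((EtDesc.pushSh f).obj F).obj) b b'
  let P : X.Etale := (EtCoh.bc f).obj V
  let t₁' : F.obj.obj (op P) := t₁
  let t₂' : F.obj.obj (op P) := t₂
  let O : Set P.left :=
    {p | ∃ (W : X.Etale) (g : W ⟶ P), p ∈ Set.range g.left ∧ F.obj.map g.op t₁' = F.obj.map g.op t₂'}
  have hO : IsOpen O := by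
    rw [isOpen_iff_forall_mem_open]
    rintro p ⟨W, g, hp, hg⟩
    refine ⟨Set.range g.left, ?_, ?_, hp⟩
    · intro q hq
      exact ⟨W, g, hq, hg⟩
    · have : Etale (g.left : W.left ⟶ P.left) := etale_left g
      exact (g.left : W.left ⟶ P.left).isOpenMap.isOpen_range
  let π : P.left ⟶ V.left := pullback.fst V.hom f
  have hfinπ : IsFinite (pullback.fst V.hom f) := inferInstance
  have hπ : IsClosedMap π := (pullback.fst V.hom f).isClosedMap
  let v₀ : V.left := v.left (default : Spec (CommRingCat.of Ω))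
  have hfib : ∀ p : P.left, π p = v₀ → p ∈ O := by
    intro p hp
    obtain ⟨ξ, hξ⟩ := exists_lift_ptPair f V v p hp
    have h1 : germS ξ.1 F P (ptPair f ξ V v) t₁' = germS ξ.1 F P (ptPair f ξ V v) t₂' :=
      (retrS_germ f ξ F V v t₁).symm.trans ((hb ξ).trans (retrS_germ f ξ F V v t₂))
    obtain ⟨W, g, w, hw, hg⟩ :=
      ((Scheme.pointSmallEtale ξ.1).toPresheafFiber_eq_iff' (P := F.obj) P (ptPair f ξ V v)
        t₁' t₂').1 h1
    refine ⟨W, g, ⟨w.left (default : Spec (CommRingCat.of Ω)), ?_⟩, hg⟩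
    rw [← hξ, ← hw]
    rfl
  let C : Set V.left := π '' Oᶜ
  have hC : IsClosed C := hπ _ hO.isClosed_compl
  have hv₀ : v₀ ∉ C := by
    rintro ⟨p, hp, hpv⟩
    exact hp (hfib p hpv)
  let Vo : V.left.Opens := ⟨Cᶜ, hC.isOpen_compl⟩
  obtain ⟨v', hv'⟩ := exists_fiber_openSub η V Vo v hv₀
  have heq : ((EtDesc.pushSh f).obj F).obj.map (openSubι V Vo).op t₁ =
      ((EtDesc.pushSh f).obj F).obj.map (openSubι V Vo).op t₂ := by
    let P' : X.Etale := (EtCoh.bc f).obj (openSub V Vo)
    let m : P' ⟶ P := (EtCoh.bc f).map (openSubι V Vo)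
    change F.obj.map m.op t₁' = F.obj.map m.op t₂'
    refine Sets.eq_of_germs (ClosedStalkSets.covering_all X) _ _ ?_
    intro Ω' _ _ ζ _ x
    have e1 := (Scheme.pointSmallEtale ζ).toPresheafFiber_w_apply m x F.obj t₁'
    have e2 := (Scheme.pointSmallEtale ζ).toPresheafFiber_w_apply m x F.obj t₂'
    refine e1.trans (Eq.trans ?_ e2.symm)
    let x₁ : (Scheme.pointSmallEtale ζ).fiber.obj P := (Scheme.pointSmallEtale ζ).fiber.map m x
    let p : P.left := x₁.left (default : Spec (CommRingCat.of Ω'))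
    have hpO : p ∈ O := by
      by_contra hcon
      have hmem : π p ∈ C := ⟨p, hcon, rfl⟩
      have h1 : (m.left : P'.left ⟶ P.left) ≫ π =
          (pullback.fst (openSub V Vo).hom f : P'.left ⟶ (openSub V Vo).left) ≫ Vo.ι :=
        ClosedStalk.bc_map_left_fst f (openSubι V Vo)
      let xl : Spec (CommRingCat.of Ω') ⟶ P'.left := x.left
      have h2 : π p = ((xl ≫ (m.left : P'.left ⟶ P.left)) ≫ π) default := rfl
      rw [Category.assoc, h1] at h2
      have h3 : π p ∈ (Vo : Set V.left) := by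
        rw [h2]
        exact ((xl ≫ pullback.fst (openSub V Vo).hom f) default).2
      exact h3 hmem
    obtain ⟨W, g, ⟨w₀, hw₀⟩, hg⟩ := hpO
    obtain ⟨w, hw⟩ := exists_fiber_lift ζ g x₁ w₀ hw₀
    change germS ζ F P x₁ t₁' = germS ζ F P x₁ t₂'
    rw [← hw, ← germS_map, ← germS_map, hg]
  have e1 := (Scheme.pointSmallEtale η).toPresheafFiber_w_apply (openSubι V Vo) v'
    ((EtDesc.pushSh f).obj F).obj t₁
  have e2 := (Scheme.pointSmallEtale η).toPresheafFiber_w_apply (openSubι V Vo) v'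
    ((EtDesc.pushSh f).obj F).obj t₂
  rw [hv'] at e1 e2
  rw [← e1, ← e2, heq]

end

end Groth.Agent.Lib.Helper22.FinPushSets
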