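import Groth.Agent.Lib.Helper22.FinPushSets.Decomp
import Groth.Agent.Lib.Helper22.FinPushSets.Inj
import Groth.Agent.Lib.Helper22.EtStalk.ClosedOpenSets

/-!
# The fibre of a finite direct image of sheaves of sets (helper22)

`(f_* F)_η ≅ ∏_{ξ ↦ η} F_ξ` for finite `f`, functorially in the sheaf of sets `F`.
-/

set_option autoImplicit false
set_option linter.unusedSectionVars false
set_option linter.unusedVariables false
universe u
open CategoryTheory CategoryTheory.Limits AlgebraicGeometry Opposite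

namespace Groth.Agent.Lib.Helper22.FinPushSets

open Groth.Agent.Lib.Helper22.CechU.Etale Groth.Agent.Lib.Helper22.EtStalk
  Groth.Agent.Lib.Helper22.EtStalk.PushRetr Groth.Agent.Lib.Helper22.EtStalk.FinitePush
  Groth.Agent.Lib.Helper22.EtLoc.Clopen Groth.Agent.Lib.Helper22.EtStalk.Sets

noncomputable section

section Glue

variable {X : Scheme.{u}}

/-- Gluing sections of a sheaf of sets over a disjoint cover by monomorphisms. -/
lemma glueFam (F : Sh X) {P : X.Etale} {ι : Type u} (A : ι → X.Etale) (a : ∀ i, A i ⟶ P)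
    [∀ i, Mono (a i)]
    (hcov : ∀ p : P.left, ∃ i, p ∈ Set.range (a i).left.base)
    (hdisj : ∀ i j, i ≠ j → Disjoint (Set.range (a i).left.base) (Set.range (a j).left.base))
    (s : ∀ i, F.obj.obj (op (A i))) :
    ∃ r : F.obj.obj (op P), ∀ i, F.obj.map (a i).op r = s i := by
  classical
  have hmem : Sieve.ofArrows A a ∈ X.smallEtaleTopology P := by
    rw [mem_smallEtaleTopology_iff]
    intro x
    obtain ⟨i, y, hy⟩ := hcov x
    exact ⟨A i, a i, y, Sieve.ofArrows_mk _ _ i, hy⟩
  have hsf : (Presieve.ofArrows A a).IsSheafFor F.obj := by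
    rw [Presieve.isSheafFor_iff_generate]
    exact isSheaf_type F _ hmem
  have hs := (Presieve.isSheafFor_arrows_iff F.obj a).1 hsf
  have key : ∀ (i j : ι), i ≠ j → ∀ (Z : X.Etale) (g₁ : Z ⟶ A i) (g₂ : Z ⟶ A j),
      g₁ ≫ a i = g₂ ≫ a j → F.obj.map g₁.op (s i) = F.obj.map g₂.op (s j) := by
    intro i j hij Z g₁ g₂ hg
    have hE : IsEmpty Z.left := by
      constructor
      intro z
      have h0 : g₁.left ≫ (a i).left = g₂.left ≫ (a j).left := congrArg (fun φ => φ.left) hg
      have h1 : (a i).left (g₁.left z) = (a j).left (g₂.left z) := by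
        have := congrArg (fun ψ : Z.left ⟶ P.left => ψ z) h0
        simpa only [Scheme.Hom.comp_apply] using this
      exact Set.disjoint_left.1 (hdisj i j hij) ⟨g₁.left z, rfl⟩ ⟨g₂.left z, h1.symm⟩
    obtain ⟨hu⟩ := ClosedOpenSets.unique_sections_of_isEmpty F Z
    exact (hu.uniq _).trans (hu.uniq _).symm
  have hx : Presieve.Arrows.Compatible F.obj a s := by
    intro i j Z gi gj hg
    by_cases hij : i = j
    · subst hij
      have : gi = gj := (cancel_mono (a i)).1 hg
      rw [this]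
    · exact key i j hij Z gi gj hg
  obtain ⟨r, hr1, -⟩ := hs s hx
  exact ⟨r, hr1⟩

end Glue

variable {X Y : Scheme.{u}} (f : X ⟶ Y) [IsFinite f]
  {Ω : Type u} [Field Ω] [IsAlgClosed Ω] (η : Spec (CommRingCat.of Ω) ⟶ Y)

set_option backward.isDefEq.respectTransparency.types false in
/-- Surjectivity half of the stalk formula for finite morphisms, sheaves of sets. -/
theorem exists_retrS_eq (F : Sh X)
    (a : ∀ ξ : Lifts f η, (Scheme.pointSmallEtale ξ.1).presheafFiber.obj F.obj) :
    ∃ b : (Scheme.pointSmallEtale η).presheafFiber.obj ((EtDesc.pushSh f).obj F).obj,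
      ∀ ξ : Lifts f η, retrS f ξ F b = a ξ := by
  have hrep : ∀ ξ : Lifts f η, ∃ (W : X.Etale) (w : (Scheme.pointSmallEtale ξ.1).fiber.obj W)
      (s : F.obj.obj (op W)), germS ξ.1 F W w s = a ξ := fun ξ =>
    (Scheme.pointSmallEtale ξ.1).toPresheafFiber_jointly_surjective (P := F.obj) (a ξ)
  choose W w s hs using hrep
  obtain ⟨V, v, N, m, n, hcov, hdisj, hn, hm⟩ := exists_decomp f W w
  let P : X.Etale := (EtCoh.bc f).obj V
  have hcov' : ∀ p : P.left, ∃ ξ, p ∈ Set.range (openSubι P (N ξ)).left.base := by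
    intro p
    obtain ⟨ξ, hξ⟩ := hcov p
    refine ⟨ξ, ?_⟩
    have : Set.range (openSubι P (N ξ)).left.base = (N ξ : Set P.left) :=
      Scheme.Opens.range_ι (N ξ)
    rw [this]
    exact hξ
  have hdisj' : ∀ ξ ξ', ξ ≠ ξ' → Disjoint (Set.range (openSubι P (N ξ)).left.base)
      (Set.range (openSubι P (N ξ')).left.base) := by
    intro ξ ξ' hne
    have e1 : Set.range (openSubι P (N ξ)).left.base = (N ξ : Set P.left) :=
      Scheme.Opens.range_ι (N ξ)
    have e2 : Set.range (openSubι P (N ξ')).left.base = (N ξ' : Set P.left) :=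
      Scheme.Opens.range_ι (N ξ')
    rw [e1, e2]
    exact hdisj ξ ξ' hne
  obtain ⟨r, hr⟩ := glueFam F (fun ξ => openSub P (N ξ)) (fun ξ => openSubι P (N ξ)) hcov' hdisj'
    (fun ξ => F.obj.map (m ξ).op (s ξ))
  let r' : ((EtDesc.pushSh f).obj F).obj.obj (op V) := r
  refine ⟨germS η ((EtDesc.pushSh f).obj F) V v r', ?_⟩
  intro ξ
  refine (retrS_germ f ξ F V v r').trans ?_
  change germS ξ.1 F P (ptPair f ξ V v) r = a ξ
  rw [← hn ξ, ← germS_map, hr ξ, germS_map, hm ξ]
  exact hs ξ

set_option backward.isDefEq.respectTransparency.types false in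
/-- The fibre of `f_*` at `η` is the product of the fibres at the lifts of `η`. -/
theorem nonempty_iso :
    Nonempty (EtDesc.pushSh f ⋙ (Scheme.pointSmallEtale η).sheafFiber (A := Type (u + 1)) ≅
      ∏ᶜ fun ξ : Lifts f η =>
        ((Scheme.pointSmallEtale ξ.1).sheafFiber (A := Type (u + 1)) : Sh X ⥤ Type (u + 1))) := by
  let G : Lifts f η → (Sh X ⥤ Type (u + 1)) := fun ξ =>
    ((Scheme.pointSmallEtale ξ.1).sheafFiber (A := Type (u + 1)) : Sh X ⥤ Type (u + 1))
  let c : Fan G := Fan.mk (EtDesc.pushSh f ⋙ (Scheme.pointSmallEtale η).sheafFiber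
    (A := Type (u + 1))) (fun ξ => retrNat f ξ)
  have hc : ∀ F : Sh X, Nonempty (IsLimit (((evaluation (Sh X) (Type (u + 1))).obj F).mapCone c)) := by
    intro F
    rw [Types.isLimit_iff_bijective_sectionOfCone]
    constructor
    · intro b b' hbb
      apply eq_of_retrS_eq f F b b'
      intro ξ
      have := congrArg (fun σ => σ.1 ⟨ξ⟩) hbb
      exact this
    · intro σ
      obtain ⟨b, hb⟩ := exists_retrS_eq f η F (fun ξ => σ.1 ⟨ξ⟩)
      refine ⟨b, ?_⟩
      apply Subtype.ext
      funext ⟨ξ⟩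
      exact hb ξ
  have hc' : IsLimit c := evaluationJointlyReflectsLimits c (fun F => (hc F).some)
  exact ⟨hc'.conePointUniqueUpToIso (limit.isLimit _)⟩

end

end Groth.Agent.Lib.Helper22.FinPushSets
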