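import Groth.Agent.Lib.Helper22.FinPushSets.Retr
import Groth.Agent.Lib.Helper22.EtStalk.FinitePushSurj
import Groth.Agent.Lib.Helper22.EtStalk.GeomFibreCard

/-!
# Finite étale neighbourhoods attached to a lift of a geometric point (helper22)

For a finite morphism `f : X ⟶ Y`, a geometric point `η` of `Y`, a lift `ξ` and an étale
neighbourhood `(W, w)` of `ξ`: an étale neighbourhood `(V, v)` of `η` and a finite étale
`T ⟶ X ×_Y V` mapping to `W`, of degree one at `(ξ, v)` and degree zero at the other points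
`(ξ', v)`.
-/

set_option autoImplicit false
set_option linter.unusedSectionVars false
set_option linter.unusedVariables false
set_option linter.style.haveILetI false
universe u
open CategoryTheory CategoryTheory.Limits AlgebraicGeometry Opposite

namespace Groth.Agent.Lib.Helper22.FinPushSets

open Groth.Agent.Lib.Helper22.CechU.Etale Groth.Agent.Lib.Helper22.EtStalk
  Groth.Agent.Lib.Helper22.EtStalk.PushRetr Groth.Agent.Lib.Helper22.EtStalk.FinitePush

noncomputable section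

variable {X Y : Scheme.{u}} (f : X ⟶ Y) [IsFinite f]
  {Ω : Type u} [Field Ω] [IsSepClosed Ω] {η : Spec (CommRingCat.of Ω) ⟶ Y}

set_option backward.isDefEq.respectTransparency.types false in
theorem exists_finite_nbhd (ξ : Lifts f η) (W : X.Etale)
    (w : (Scheme.pointSmallEtale ξ.1).fiber.obj W) :
    ∃ (V : Y.Etale) (v : (Scheme.pointSmallEtale η).fiber.obj V) (Tet : X.Etale)
      (h : Tet ⟶ (EtCoh.bc f).obj V) (k : Tet ⟶ W)
      (qT : (Scheme.pointSmallEtale ξ.1).fiber.obj Tet),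
      IsFinite (h.left : Tet.left ⟶ ((EtCoh.bc f).obj V).left) ∧
      (Scheme.pointSmallEtale ξ.1).fiber.map h qT = ptPair f ξ V v ∧
      (Scheme.pointSmallEtale ξ.1).fiber.map k qT = w ∧
      ∀ (ξ' : Lifts f η) (u : (Scheme.pointSmallEtale ξ'.1).fiber.obj Tet),
        (Scheme.pointSmallEtale ξ'.1).fiber.map h u = ptPair f ξ' V v →
          (u.left : Spec (CommRingCat.of Ω) ⟶ Tet.left) = qT.left := by
  let wl : Spec (CommRingCat.of Ω) ⟶ W.left := w.left
  have hwl : wl ≫ W.hom = ξ.1 := Over.w w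
  have hWet : Etale (W.hom : W.left ⟶ X) := W.prop
  let hW : W.left ⟶ Y := W.hom ≫ f
  have hlqfW : LocallyQuasiFinite (W.hom : W.left ⟶ X) :=
    Groth.Agent.Lib.Helper14.AS.etale_locallyQuasiFinite _
  have hlqf : LocallyQuasiFinite hW := inferInstanceAs (LocallyQuasiFinite (W.hom ≫ f))
  have hlft : LocallyOfFiniteType hW := inferInstanceAs (LocallyOfFiniteType (W.hom ≫ f))
  let x₀ : W.left := wl default
  let y₀ : Y := η default
  have hwη : wl ≫ hW = η := by
    change wl ≫ W.hom ≫ f = η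
    rw [← Category.assoc, hwl]
    exact ξ.2
  have hx₀ : hW x₀ = y₀ := by
    change (wl ≫ hW) default = η default
    rw [hwη]
  obtain ⟨V₀, g₀, v₀, hg₀et, hg₀v₀, J, hJ, T, tpt, hT, hdist, hall, -⟩ :=
    Groth.Agent.Lib.Helper6.EtLoc.exists_etale_nbhd_insep_family hW y₀ (ι := Unit)
      (fun _ => x₀) (fun _ _ _ => rfl) (fun _ => hx₀) (fun _ => hW.quasiFiniteAt x₀)
  let V : Y.Etale := MorphismProperty.Over.mk ⊤ g₀ hg₀et
  have hηy : η (default : Spec (CommRingCat.of Ω)) = y₀ := rfl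
  obtain ⟨v, hv⟩ := Scheme.pointSmallEtaleFiberObjToPreimage_surjective η hηy V ⟨v₀, hg₀v₀⟩
  let vl : Spec (CommRingCat.of Ω) ⟶ V₀ := v.left
  have hvl : vl ≫ g₀ = η := Over.w v
  have hvl₀ : vl default = v₀ := congrArg Subtype.val hv
  let Z : Scheme.{u} := pullback hW g₀
  let q : Spec (CommRingCat.of Ω) ⟶ Z := pullback.lift wl vl (hwη.trans hvl.symm)
  have hq1 : q ≫ pullback.fst hW g₀ = wl := pullback.lift_fst _ _ _
  have hq2 : q ≫ pullback.snd hW g₀ = vl := pullback.lift_snd _ _ _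
  let q₀ : Z := q default
  have hq₀1 : pullback.fst hW g₀ q₀ = x₀ := by
    change (q ≫ pullback.fst hW g₀) default = _
    rw [hq1]
  have hq₀2 : pullback.snd hW g₀ q₀ = v₀ := by
    change (q ≫ pullback.snd hW g₀) default = _
    rw [hq2]
    exact hvl₀
  obtain ⟨j, hj⟩ := hall q₀ () hq₀2 hq₀1
  obtain ⟨hmem, hTfin, htv, huniq, ⟨-, hpi⟩, -⟩ := hT () j
  let T₀ : Z.Opens := T () j
  have hqr : Set.range q ⊆ Set.range T₀.ι := by
    rw [Scheme.Opens.range_ι]
    rintro _ ⟨z, rfl⟩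
    rw [Subsingleton.elim z default]
    change q₀ ∈ T () j
    rw [hj]
    exact hmem
  let q' : Spec (CommRingCat.of Ω) ⟶ (T₀ : Scheme.{u}) := IsOpenImmersion.lift T₀.ι q hqr
  have hq' : q' ≫ T₀.ι = q := IsOpenImmersion.lift_fac _ _ _
  let P : X.Etale := (EtCoh.bc f).obj V
  let Thom : (T₀ : Scheme.{u}) ⟶ X := T₀.ι ≫ pullback.fst hW g₀ ≫ W.hom
  have hThom : Etale Thom := inferInstanceAs (Etale (T₀.ι ≫ pullback.fst hW g₀ ≫ W.hom))
  let Tet : X.Etale := MorphismProperty.Over.mk ⊤ Thom hThom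
  let hl₀ : Z ⟶ pullback g₀ f := pullback.lift (pullback.snd hW g₀) (pullback.fst hW g₀ ≫ W.hom) (by
    rw [Category.assoc]
    exact pullback.condition.symm)
  have hl₀1 : hl₀ ≫ pullback.fst g₀ f = pullback.snd hW g₀ := pullback.lift_fst _ _ _
  have hl₀2 : hl₀ ≫ pullback.snd g₀ f = pullback.fst hW g₀ ≫ W.hom := pullback.lift_snd _ _ _
  let hl : (T₀ : Scheme.{u}) ⟶ pullback g₀ f := T₀.ι ≫ hl₀
  have hhl : hl ≫ pullback.snd g₀ f = Thom := by
    change (T₀.ι ≫ hl₀) ≫ pullback.snd g₀ f = _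
    rw [Category.assoc, hl₀2]
  let h : Tet ⟶ P := MorphismProperty.Over.homMk hl hhl trivial
  have e1 : hl ≫ pullback.fst g₀ f = T₀.ι ≫ pullback.snd hW g₀ := by
    change (T₀.ι ≫ hl₀) ≫ pullback.fst g₀ f = _
    rw [Category.assoc, hl₀1]
  have hfin : IsFinite (h.left : Tet.left ⟶ P.left) := by
    have : IsFinite (hl ≫ pullback.fst g₀ f) := by
      rw [e1]
      exact hTfin
    exact IsFinite.of_comp hl (pullback.fst g₀ f)
  let k : Tet ⟶ W := MorphismProperty.Over.homMk (T₀.ι ≫ pullback.fst hW g₀)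
    (Category.assoc _ _ _) trivial
  have hU : ∀ (ξ' : Lifts f η) (u : (Scheme.pointSmallEtale ξ'.1).fiber.obj Tet),
      (Scheme.pointSmallEtale ξ'.1).fiber.map h u = ptPair f ξ' V v →
        (u.left : Spec (CommRingCat.of Ω) ⟶ (T₀ : Scheme.{u})) = q' := by
    intro ξ' u hu
    let ul : Spec (CommRingCat.of Ω) ⟶ (T₀ : Scheme.{u}) := u.left
    have hu1 : ul ≫ hl = ptPairL f ξ' V v := congrArg (fun t => t.left) hu
    have hu2 : (ul ≫ T₀.ι) ≫ pullback.snd hW g₀ = vl := by
      rw [Category.assoc, ← e1, ← Category.assoc, hu1]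
      exact ptPairL_fst f ξ' V v
    have hu3 : (ul ≫ T₀.ι) default = tpt () j := by
      apply huniq
      · exact (ul default).2
      · change ((ul ≫ T₀.ι) ≫ pullback.snd hW g₀) default = v₀
        rw [hu2]
        exact hvl₀
    have hu4 : ul ≫ T₀.ι = q :=
      eq_of_comp_eq_of_isPurelyInseparable (pullback.snd hW g₀) (tpt () j) hpi _ _ hu3 hj
        (hu2.trans hq2.symm)
    change ul = q'
    exact (cancel_mono T₀.ι).1 (hu4.trans hq'.symm)
  have hq'Thom : q' ≫ Thom = ξ.1 := by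
    change q' ≫ T₀.ι ≫ pullback.fst hW g₀ ≫ W.hom = ξ.1
    rw [← Category.assoc, hq', ← Category.assoc, hq1, hwl]
  let qT : (Scheme.pointSmallEtale ξ.1).fiber.obj Tet := Over.homMk q' hq'Thom
  have hqT : (Scheme.pointSmallEtale ξ.1).fiber.map h qT = ptPair f ξ V v := by
    apply Over.OverMorphism.ext
    change q' ≫ hl = ptPairL f ξ V v
    apply pullback.hom_ext
    · rw [Category.assoc, e1, ← Category.assoc, hq', hq2]
      exact (ptPairL_fst f ξ V v).symm
    · rw [Category.assoc, hhl, hq'Thom]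
      exact (ptPairL_snd f ξ V v).symm
  have hkq : (Scheme.pointSmallEtale ξ.1).fiber.map k qT = w := by
    apply Over.OverMorphism.ext
    change q' ≫ T₀.ι ≫ pullback.fst hW g₀ = wl
    rw [← Category.assoc, hq', hq1]
  exact ⟨V, v, Tet, h, k, qT, hfin, hqT, hkq, fun ξ' u hu => hU ξ' u hu⟩

end

end Groth.Agent.Lib.Helper22.FinPushSets
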