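import Groth.Agent.Lib.Helper22.FinPushSets.Nbhd

/-!
# The degree of the finite étale neighbourhood at the points `(ξ', v)` (helper22)
-/

set_option autoImplicit false
set_option linter.unusedSectionVars false
set_option linter.unusedVariables false
universe u
open CategoryTheory CategoryTheory.Limits AlgebraicGeometry Opposite

namespace Groth.Agent.Lib.Helper22.FinPushSets

open Groth.Agent.Lib.Helper22.CechU.Etale Groth.Agent.Lib.Helper22.EtStalk
  Groth.Agent.Lib.Helper22.EtStalk.PushRetr Groth.Agent.Lib.Helper22.EtStalk.FinitePush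

noncomputable section

variable {X Y : Scheme.{u}} (f : X ⟶ Y)
  {Ω : Type u} [Field Ω] [IsSepClosed Ω] {η : Spec (CommRingCat.of Ω) ⟶ Y}

open Classical in
set_option backward.isDefEq.respectTransparency.types false in
theorem finrank_ptPair (ξ : Lifts f η) (V : Y.Etale) (v : (Scheme.pointSmallEtale η).fiber.obj V)
    (Tet : X.Etale) (h : Tet ⟶ (EtCoh.bc f).obj V)
    (qT : (Scheme.pointSmallEtale ξ.1).fiber.obj Tet)
    [hfin : IsFinite (h.left : Tet.left ⟶ ((EtCoh.bc f).obj V).left)]
    (hq : (Scheme.pointSmallEtale ξ.1).fiber.map h qT = ptPair f ξ V v)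
    (hU : ∀ (ξ' : Lifts f η) (u : (Scheme.pointSmallEtale ξ'.1).fiber.obj Tet),
        (Scheme.pointSmallEtale ξ'.1).fiber.map h u = ptPair f ξ' V v →
          (u.left : Spec (CommRingCat.of Ω) ⟶ Tet.left) = qT.left)
    (ξ' : Lifts f η) :
    (h.left : Tet.left ⟶ ((EtCoh.bc f).obj V).left).finrank
      ((ptPairL f ξ' V v) (default : Spec (CommRingCat.of Ω))) = if ξ' = ξ then 1 else 0 := by
  let P : X.Etale := (EtCoh.bc f).obj V
  let hl : Tet.left ⟶ P.left := h.left
  have het : Etale hl := etale_left h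
  have hfl : Flat hl := inferInstance
  have hfin' : IsFinite hl := hfin
  have hcard := GeomFibre.card_lifts_eq_finrank hl (ptPairL f ξ' V v)
  refine hcard.symm.trans ?_
  have hTP : hl ≫ (P.hom : P.left ⟶ X) = Tet.hom := Over.w h.hom
  have hkey : ∀ l : Lifts hl (ptPairL f ξ' V v), l.1 = qT.left := by
    intro l
    have hlX : l.1 ≫ (Tet.hom : Tet.left ⟶ X) = ξ'.1 := by
      rw [← hTP, ← Category.assoc, l.2]
      exact ptPairL_snd f ξ' V v
    let u : (Scheme.pointSmallEtale ξ'.1).fiber.obj Tet := Over.homMk l.1 hlX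
    have hu : (Scheme.pointSmallEtale ξ'.1).fiber.map h u = ptPair f ξ' V v := by
      apply Over.OverMorphism.ext
      exact l.2
    exact hU ξ' u hu
  have hsub : Subsingleton (Lifts hl (ptPairL f ξ' V v)) := by
    constructor
    intro l l'
    apply Subtype.ext
    rw [hkey l, hkey l']
  by_cases hξ : ξ' = ξ
  · subst hξ
    rw [if_pos rfl]
    have hq' : (qT.left : Spec (CommRingCat.of Ω) ⟶ Tet.left) ≫ hl = ptPairL f ξ' V v :=
      congrArg (fun t => t.left) hq
    have : Unique (Lifts hl (ptPairL f ξ' V v)) :=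
      { default := ⟨qT.left, hq'⟩
        uniq := fun l => Subsingleton.elim _ _ }
    exact Nat.card_unique
  · rw [if_neg hξ]
    have : IsEmpty (Lifts hl (ptPairL f ξ' V v)) := by
      constructor
      intro l
      apply hξ
      apply Subtype.ext
      have h1 : l.1 ≫ (Tet.hom : Tet.left ⟶ X) = ξ'.1 := by
        rw [← hTP, ← Category.assoc, l.2]
        exact ptPairL_snd f ξ' V v
      have h2 : (qT.left : Spec (CommRingCat.of Ω) ⟶ Tet.left) ≫ (Tet.hom : Tet.left ⟶ X) = ξ.1 :=
        Over.w qT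
      have h3 : l.1 ≫ (Tet.hom : Tet.left ⟶ X) =
          (qT.left : Spec (CommRingCat.of Ω) ⟶ Tet.left) ≫ (Tet.hom : Tet.left ⟶ X) :=
        congrArg (fun t => t ≫ (Tet.hom : Tet.left ⟶ X)) (hkey l)
      exact h1.symm.trans (h3.trans h2)
    exact Nat.card_of_isEmpty

end

end Groth.Agent.Lib.Helper22.FinPushSets
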