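import Groth.Agent.Lib.Helper22.EtStalk.PushRetr
import Groth.Agent.Lib.Helper22.EtStalk.SetsFamily
import Groth.Agent.Lib.Helper22.EtStalk.ClosedStalkSets

/-!
# The maps `(f_* F)_η ⟶ F_ξ` for sheaves of sets (helper22)

Sets-valued analogue of `PushRetr`.
-/

set_option autoImplicit false
set_option linter.unusedSectionVars false
universe u
open CategoryTheory CategoryTheory.Limits AlgebraicGeometry Opposite

namespace Groth.Agent.Lib.Helper22.FinPushSets

open Groth.Agent.Lib.Helper22.CechU.Etale Groth.Agent.Lib.Helper22.EtStalk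
  Groth.Agent.Lib.Helper22.EtStalk.PushRetr Groth.Agent.Lib.Helper22.EtStalk.Sets

noncomputable section

variable {X Y : Scheme.{u}} (f : X ⟶ Y)
  {Ω : Type u} [Field Ω] [IsSepClosed Ω] {η : Spec (CommRingCat.of Ω) ⟶ Y}

/-- The germ map for sheaves of sets. -/
abbrev germS {X : Scheme.{u}} {Ω : Type u} [Field Ω] [IsSepClosed Ω]
    (ξ : Spec (CommRingCat.of Ω) ⟶ X) (F : Sh X) (U : X.Etale)
    (x : (Scheme.pointSmallEtale ξ).fiber.obj U) :
    F.obj.obj (op U) ⟶ (Scheme.pointSmallEtale ξ).presheafFiber.obj F.obj :=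
  (Scheme.pointSmallEtale ξ).toPresheafFiber U x F.obj

lemma germS_map {X : Scheme.{u}} {Ω : Type u} [Field Ω] [IsSepClosed Ω]
    (ξ : Spec (CommRingCat.of Ω) ⟶ X) (F : Sh X) {U U' : X.Etale} (g : U' ⟶ U)
    (x' : (Scheme.pointSmallEtale ξ).fiber.obj U') (s : F.obj.obj (op U)) :
    germS ξ F U' x' (F.obj.map g.op s) =
      germS ξ F U ((Scheme.pointSmallEtale ξ).fiber.map g x') s :=
  (Scheme.pointSmallEtale ξ).toPresheafFiber_w_apply g x' F.obj s

/-- The map `(f_* F)_η ⟶ F_ξ` attached to a lift `ξ` of `η`, for sheaves of sets. -/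
def retrS (ξ : Lifts f η) (F : Sh X) :
    (Scheme.pointSmallEtale η).presheafFiber.obj ((EtDesc.pushSh f).obj F).obj ⟶
      (Scheme.pointSmallEtale ξ.1).presheafFiber.obj F.obj :=
  (Scheme.pointSmallEtale η).presheafFiberDesc (P := ((EtDesc.pushSh f).obj F).obj)
    (fun V v => germS ξ.1 F ((EtCoh.bc f).obj V) (ptPair f ξ V v))
    (fun V' V g v' => by
      rw [← ptPair_natural]
      exact (Scheme.pointSmallEtale ξ.1).toPresheafFiber_w ((EtCoh.bc f).map g) _ F.obj)

lemma germ_retrS (ξ : Lifts f η) (F : Sh X) (V : Y.Etale)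
    (v : (Scheme.pointSmallEtale η).fiber.obj V) :
    germS η ((EtDesc.pushSh f).obj F) V v ≫ retrS f ξ F =
      germS ξ.1 F ((EtCoh.bc f).obj V) (ptPair f ξ V v) :=
  (Scheme.pointSmallEtale η).toPresheafFiber_presheafFiberDesc _ _ V v

lemma retrS_germ (ξ : Lifts f η) (F : Sh X) (V : Y.Etale)
    (v : (Scheme.pointSmallEtale η).fiber.obj V) (t : ((EtDesc.pushSh f).obj F).obj.obj (op V)) :
    retrS f ξ F (germS η ((EtDesc.pushSh f).obj F) V v t) =
      germS ξ.1 F ((EtCoh.bc f).obj V) (ptPair f ξ V v) t :=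
  congrArg (fun φ : ((EtDesc.pushSh f).obj F).obj.obj (op V) ⟶
      (Scheme.pointSmallEtale ξ.1).presheafFiber.obj F.obj => φ t) (germ_retrS f ξ F V v)

/-- `retrS` as a natural transformation. -/
def retrNat (ξ : Lifts f η) :
    EtDesc.pushSh f ⋙ (Scheme.pointSmallEtale η).sheafFiber (A := Type (u + 1)) ⟶
      ((Scheme.pointSmallEtale ξ.1).sheafFiber (A := Type (u + 1)) : Sh X ⥤ Type (u + 1)) where
  app F := retrS f ξ F
  naturality F G a := by
    apply (Scheme.pointSmallEtale η).presheafFiber_hom_ext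
    intro V v
    ext t
    have e1 := retrS_germ f ξ F V v t
    have e2 := retrS_germ f ξ G V v (((EtDesc.pushSh f).map a).hom.app (op V) t)
    have n1 := congrArg (fun φ => φ t)
      ((Scheme.pointSmallEtale η).toPresheafFiber_naturality ((EtDesc.pushSh f).map a).hom V v)
    have n2 := congrArg (fun φ => φ t)
      ((Scheme.pointSmallEtale ξ.1).toPresheafFiber_naturality a.hom ((EtCoh.bc f).obj V)
        (ptPair f ξ V v))
    simp only [types_comp_apply] at n1 n2 ⊢
    change retrS f ξ G ((Scheme.pointSmallEtale η).presheafFiber.map ((EtDesc.pushSh f).map a).hom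
      (germS η ((EtDesc.pushSh f).obj F) V v t)) =
      (Scheme.pointSmallEtale ξ.1).presheafFiber.map a.hom
        (retrS f ξ F (germS η ((EtDesc.pushSh f).obj F) V v t))
    rw [e1]
    refine Eq.trans ?_ n2.symm
    refine Eq.trans (congrArg (retrS f ξ G) n1) ?_
    exact e2

end

end Groth.Agent.Lib.Helper22.FinPushSets
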